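import Groth.Prelude.Def_ThetaS
import Mathlib.AlgebraicGeometry.Morphisms.ClosedImmersion
import Mathlib.AlgebraicGeometry.Pullbacks
import Mathlib.LinearAlgebra.TensorProduct.Tower
import Mathlib.Algebra.MonoidAlgebra.Module

/-!
# Morphisms from a product with the affine line are determined on the product with `G_m`
-/

set_option backward.isDefEq.respectTransparency false
set_option backward.isDefEq.respectTransparency.types false

universe u

open CategoryTheory CategoryTheory.Limits MonoidalCategory CartesianMonoidalCategory MonObj AlgebraicGeometry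
open scoped TensorProduct Polynomial

namespace Groth.Agent.GmDense

/-- Maps from an affine scheme to a separated one agree if they do after a map injective on global functions. -/
theorem eq_of_appTop_injective {W P X S : Scheme.{u}} [IsAffine P] (f : W ⟶ P) (hf : Function.Injective f.appTop)
    (z : X ⟶ S) [IsSeparated z] (v₁ v₂ : P ⟶ X) (hz : v₁ ≫ z = v₂ ≫ z) (h : f ≫ v₁ = f ≫ v₂) : v₁ = v₂ := by
  let v : P ⟶ pullback z z := pullback.lift v₁ v₂ hz
  let e : pullback v (pullback.diagonal z) ⟶ P := pullback.fst _ _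
  let j : W ⟶ pullback v (pullback.diagonal z) := pullback.lift f (f ≫ v₁) (by
    apply pullback.hom_ext <;> simp [v, h])
  have hj : j ≫ e = f := pullback.lift_fst _ _ _
  have hinj : Function.Injective e.appTop := fun a b hab => hf (by
    rw [← hj, Scheme.Hom.comp_appTop, CommRingCat.comp_apply, CommRingCat.comp_apply, hab])
  have : IsIso e := IsClosedImmersion.isIso_of_injective_of_isAffine hinj
  rw [← cancel_epi e]
  have c := pullback.condition (f := v) (g := pullback.diagonal z)
  have c1 := congrArg (fun q => q ≫ pullback.fst z z) c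
  have c2 := congrArg (fun q => q ≫ pullback.snd z z) c
  simp only [v, Category.assoc, pullback.lift_fst, pullback.lift_snd, pullback.diagonal_fst,
    pullback.diagonal_snd, Category.comp_id] at c1 c2
  exact c1.trans c2.symm

/-- The affine case: an algebra map with a linear retraction is injective after any base change. -/
theorem eq_of_retraction_affine {R : Type u} [CommRing R] {B C A : Type u} [CommRing B] [CommRing C] [CommRing A]
    [Algebra R B] [Algebra R C] [Algebra R A] (φ : B →ₐ[R] C) (r : C →ₗ[R] B) (hr : ∀ b, r (φ b) = b)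
    {X S : Scheme.{u}} (z : X ⟶ S) [IsSeparated z] (u v : Spec (CommRingCat.of (B ⊗[R] A)) ⟶ X) (hz : u ≫ z = v ≫ z)
    (h : Spec.map (CommRingCat.ofHom (Algebra.TensorProduct.map φ (AlgHom.id R A)).toRingHom) ≫ u =
      Spec.map (CommRingCat.ofHom (Algebra.TensorProduct.map φ (AlgHom.id R A)).toRingHom) ≫ v) : u = v := by
  have hF : Function.Injective (Algebra.TensorProduct.map φ (AlgHom.id R A)) := by
    refine Function.LeftInverse.injective (g := LinearMap.rTensor A r) fun x => ?_
    induction x using TensorProduct.induction_on with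
    | zero => simp
    | tmul a a' => simp [hr]
    | add x y hx hy => rw [map_add, map_add, hx, hy]
  refine eq_of_appTop_injective _ ?_ z u v hz h
  intro a a' haa
  have hn := Scheme.ΓSpecIso_naturality
    (CommRingCat.ofHom (Algebra.TensorProduct.map φ (AlgHom.id R A)).toRingHom)
  apply (ConcreteCategory.bijective_of_isIso (Scheme.ΓSpecIso _).hom).1
  refine hF ?_
  have h1 := ConcreteCategory.congr_hom hn a
  have h2 := ConcreteCategory.congr_hom hn a'
  rw [CommRingCat.comp_apply, CommRingCat.comp_apply] at h1 h2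
  exact (h1.symm.trans (congrArg _ haa)).trans h2

/-- The scheme-level form over an arbitrary base change. -/
theorem eq_of_retraction_scheme {R : Type u} [CommRing R] {B C : Type u} [CommRing B] [CommRing C]
    [Algebra R B] [Algebra R C] (φ : B →ₐ[R] C) (r : C →ₗ[R] B) (hr : ∀ b, r (φ b) = b)
    {T X S : Scheme.{u}} (p : T ⟶ Spec (CommRingCat.of R)) (z : X ⟶ S) [IsSeparated z]
    (w : pullback (Spec.map (CommRingCat.ofHom (algebraMap R C))) p ⟶
      pullback (Spec.map (CommRingCat.ofHom (algebraMap R B))) p)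
    (hw₁ : w ≫ pullback.fst _ _ = pullback.fst _ _ ≫ Spec.map (CommRingCat.ofHom φ.toRingHom))
    (hw₂ : w ≫ pullback.snd _ _ = pullback.snd _ _)
    (u v : pullback (Spec.map (CommRingCat.ofHom (algebraMap R B))) p ⟶ X) (hz : u ≫ z = v ≫ z)
    (h : w ≫ u = w ≫ v) : u = v := by
  refine (Scheme.Pullback.openCoverOfRight T.affineCover (Spec.map (CommRingCat.ofHom (algebraMap R B))) p).hom_ext
    _ _ fun i => ?_
  let f := T.affineCover.f i
  let A : CommRingCat.{u} := Γ(T.affineCover.X i, ⊤)
  let e : Spec A ⟶ T.affineCover.X i := (T.affineCover.X i).isoSpec.inv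
  obtain ⟨g, hg⟩ : ∃ g, Spec.map g = e ≫ f ≫ p := ⟨_, Spec.map_preimage _⟩
  letI : Algebra R A := g.hom.toAlgebra
  have hwB : (Spec.map (CommRingCat.ofHom (algebraMap B (B ⊗[R] A)))) ≫ Spec.map (CommRingCat.ofHom (algebraMap R B)) =
      (Spec.map (CommRingCat.ofHom (Algebra.TensorProduct.includeRight (R := R) (A := B) (B := A)).toRingHom) ≫
        e ≫ f) ≫ p := by
    rw [Category.assoc, Category.assoc, ← hg, ← Spec.map_comp, ← Spec.map_comp]
    congr 1
    ext x
    exact (IsScalarTower.algebraMap_apply R B (B ⊗[R] A) x).symm.trans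
      (Algebra.TensorProduct.includeRight.commutes x).symm
  let pB : Spec (CommRingCat.of (B ⊗[R] A)) ⟶ pullback (Spec.map (CommRingCat.ofHom (algebraMap R B))) p :=
    pullback.lift _ _ hwB
  have hwC : (Spec.map (CommRingCat.ofHom (algebraMap C (C ⊗[R] A)))) ≫ Spec.map (CommRingCat.ofHom (algebraMap R C)) =
      (Spec.map (CommRingCat.ofHom (Algebra.TensorProduct.includeRight (R := R) (A := C) (B := A)).toRingHom) ≫
        e ≫ f) ≫ p := by
    rw [Category.assoc, Category.assoc, ← hg, ← Spec.map_comp, ← Spec.map_comp]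
    congr 1
    ext x
    exact (IsScalarTower.algebraMap_apply R C (C ⊗[R] A) x).symm.trans
      (Algebra.TensorProduct.includeRight.commutes x).symm
  let pC : Spec (CommRingCat.of (C ⊗[R] A)) ⟶ pullback (Spec.map (CommRingCat.ofHom (algebraMap R C))) p :=
    pullback.lift _ _ hwC
  let F := Algebra.TensorProduct.map φ (AlgHom.id R A)
  have hsq : Spec.map (CommRingCat.ofHom F.toRingHom) ≫ pB = pC ≫ w := by
    apply pullback.hom_ext
    · rw [Category.assoc, Category.assoc, hw₁, pullback.lift_fst, pullback.lift_fst_assoc, ← Spec.map_comp,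
        ← Spec.map_comp]
      congr 1
    · rw [Category.assoc, Category.assoc, hw₂, pullback.lift_snd, pullback.lift_snd, ← Spec.map_comp_assoc]
      congr 2
      ext x
      exact (Algebra.TensorProduct.map_tmul φ (AlgHom.id R A) 1 x).trans (by simp)
  have key : pB ≫ u = pB ≫ v := by
    refine eq_of_retraction_affine φ r hr z _ _ (by rw [Category.assoc, Category.assoc, hz]) ?_
    rw [reassoc_of% hsq, reassoc_of% hsq, h]
  haveI : IsIso e := inferInstanceAs (IsIso (T.affineCover.X i).isoSpec.inv)
  let m : pullback (Spec.map (CommRingCat.ofHom (algebraMap R B))) (Spec.map (CommRingCat.ofHom (algebraMap R A))) ⟶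
      pullback (Spec.map (CommRingCat.ofHom (algebraMap R B))) (f ≫ p) :=
    pullback.map _ _ _ _ (𝟙 _) e (𝟙 _) (by simp) (by rw [Category.comp_id, ← hg]; rfl)
  haveI : IsIso m := inferInstanceAs (IsIso (pullback.map _ _ _ _ _ _ _ _ _))
  have hm : pB = (pullbackSpecIso R B A).inv ≫ m ≫
      (Scheme.Pullback.openCoverOfRight T.affineCover (Spec.map (CommRingCat.ofHom (algebraMap R B))) p).f i := by
    apply pullback.hom_ext
    · erw [pullback.lift_fst, Category.assoc, Category.assoc, pullback.lift_fst]
      rw [Category.comp_id]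
      erw [pullback.lift_fst]
      rw [Category.comp_id]
      exact (pullbackSpecIso_inv_fst' R B A).symm
    · erw [pullback.lift_snd, Category.assoc, Category.assoc, pullback.lift_snd]
      erw [pullback.lift_snd_assoc]
      rw [Category.assoc]
      erw [pullbackSpecIso_inv_snd_assoc]
      rfl
  rw [hm] at key
  simp only [Category.assoc, cancel_epi] at key
  exact key

/-- An algebra map with a linear retraction gives an epimorphism, after any base change, onto separated targets. -/
theorem eq_of_retraction {R : Type u} [CommRing R] {B C : Type u} [CommRing B] [CommRing C] [Algebra R B]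
    [Algebra R C] (φ : B →ₐ[R] C) (r : C →ₗ[R] B) (hr : ∀ b, r (φ b) = b)
    (T X : Over (Spec (CommRingCat.of R))) [IsSeparated X.hom] (u v : CoactBr.sp R B ⊗ T ⟶ X)
    (h : (CoactBr.pt φ ▷ T) ≫ u = (CoactBr.pt φ ▷ T) ≫ v) : u = v :=
  Over.OverMorphism.ext (eq_of_retraction_scheme φ r hr T.hom X.hom (CoactBr.pt φ ▷ T).left
    (Over.whiskerRight_left_fst (CoactBr.pt φ)) (Over.whiskerRight_left_snd (CoactBr.pt φ)) u.left v.left
    ((Over.w u).trans (Over.w v).symm) (congrArg CommaMorphism.left h))

/-- The non-negative part of a Laurent polynomial. -/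
theorem exists_retraction (R : Type u) [CommRing R] :
    ∃ r : ThetaS.Lau R →ₗ[R] R[X], ∀ p, r (ThetaS.linePt (ThetaS.zPow R 1) p) = p := by
  let r := (MonoidAlgebra.basis (Multiplicative ℤ) R).constr R
    (fun m => if 0 ≤ m.toAdd then (Polynomial.X : R[X]) ^ m.toAdd.toNat else 0)
  refine ⟨r, fun p => ?_⟩
  induction p using Polynomial.induction_on' with
  | add p q hp hq => rw [map_add, map_add, hp, hq]
  | monomial n a =>
    rw [Polynomial.aeval_monomial, ← Algebra.smul_def, map_smul]
    have h1 : ThetaS.zPow R 1 ^ n = MonoidAlgebra.basis (Multiplicative ℤ) R (Multiplicative.ofAdd (n : ℤ)) := by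
      rw [MonoidAlgebra.basis_apply, MonoidAlgebra.single_pow, one_pow, ← ofAdd_nsmul, nsmul_one]
    rw [h1, Module.Basis.constr_basis, toAdd_ofAdd, if_pos (Int.natCast_nonneg n), Int.toNat_natCast,
      ← Polynomial.smul_X_eq_monomial]

theorem eq_of_comp_line {R : Type u} [CommRing R] (T X : Over (Spec (CommRingCat.of R))) [IsSeparated X.hom]
    (u v : ThetaS.Line R ⊗ T ⟶ X)
    (h : ((CoactBr.pt (ThetaS.linePt (ThetaS.zPow R 1)) : ThetaS.Gm R ⟶ ThetaS.Line R) ▷ T) ≫ u =
      ((CoactBr.pt (ThetaS.linePt (ThetaS.zPow R 1)) : ThetaS.Gm R ⟶ ThetaS.Line R) ▷ T) ≫ v) : u = v := by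
  obtain ⟨r, hr⟩ := exists_retraction R
  exact eq_of_retraction (ThetaS.linePt (ThetaS.zPow R 1)) r hr T X u v h

/-- The inclusion of `G_m` is the orbit of the point `1`. -/
theorem lift_one_line_act (R : Type u) [CommRing R] :
    lift (𝟙 (ThetaS.Gm R)) ((1 : ThetaS.Gm R ⟶ ThetaS.Gm R) ≫
      (CoactBr.pt (ThetaS.linePt (ThetaS.zPow R 1)) : ThetaS.Gm R ⟶ ThetaS.Line R)) ≫ (ThetaS.lineAction R).act =
      (CoactBr.pt (ThetaS.linePt (ThetaS.zPow R 1)) : ThetaS.Gm R ⟶ ThetaS.Line R) := by
  show lift (𝟙 (CoactBr.sp R (ThetaS.Lau R))) ((1 : CoactBr.sp R (ThetaS.Lau R) ⟶ CoactBr.sp R (ThetaS.Lau R)) ≫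
      CoactBr.pt (ThetaS.linePt (ThetaS.zPow R 1))) ≫ (ThetaS.lineAction R).act =
      CoactBr.pt (ThetaS.linePt (ThetaS.zPow R 1))
  rw [CoactBr.one_eq_pt, ← CoactBr.pt_comp, ← CoactBr.pt_id]
  have : ((Algebra.ofId R (ThetaS.Lau R)).comp (Bialgebra.counitAlgHom R (ThetaS.Lau R))).comp
      (ThetaS.linePt (ThetaS.zPow R 1)) = ThetaS.linePt (1 : ThetaS.Lau R) := by
    apply Polynomial.algHom_ext
    simp [MonoidAlgebra.one_def]
  rw [this, ThetaS.lineAction_pt, _root_.mul_one]
  rfl

end Groth.Agent.GmDense
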